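import Mathlib
import Groth.Agent.FlatMor66.Degree2
import Groth.Agent.Unr55.UnrQF

/-!
Étale morphisms of qcqs schemes become finite over a finite stratification.
-/

set_option autoImplicit false
universe u

open AlgebraicGeometry CategoryTheory Limits Topology

namespace Groth.Agent.EtStrat51

open Groth.Agent.FlatMor66

/-- A function with constructible level sets on a qcqs scheme takes finitely many values. -/
theorem finite_range {X : Scheme.{u}} [CompactSpace X] [QuasiSeparatedSpace X] {α : Type*}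
    (D : X → α) (h : ∀ a, IsConstructible (D ⁻¹' {a})) : (Set.range D).Finite := by
  classical
  obtain ⟨F, hF⟩ := (isCompact_univ (X := WithConstructibleTopology X)).elim_finite_subcover
    (fun a : α => WithTopology.ofTopology ⁻¹' (D ⁻¹' {a}))
    (fun a => WithConstructibleTopology.isOpen_iff.mpr
      (isClopen_constructibleTopology_of_isConstructible (h a)).1)
    (fun z _ => Set.mem_iUnion.mpr ⟨_, rfl⟩)
  refine F.finite_toSet.subset ?_
  rintro _ ⟨x, rfl⟩
  obtain ⟨a, ha, hx⟩ := Set.mem_iUnion₂.mp (hF (Set.mem_univ (WithTopology.toTopology _ x)))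
  have hx' : D x = a := hx
  exact hx' ▸ ha

/-- A locally closed subset is the range of an immersion. -/
theorem exists_immersion {X : Scheme.{u}} {Z : Set X} (hZ : IsLocallyClosed Z) :
    ∃ (T : Scheme.{u}) (g : T ⟶ X), IsImmersion g ∧ Set.range g = Z := by
  obtain ⟨O, C, hO, hC, rfl⟩ := hZ
  let O' : X.Opens := ⟨O, hO⟩
  let C' : TopologicalSpace.Closeds O'.toScheme := ⟨O'.ι ⁻¹' C, hC.preimage O'.ι.continuous⟩
  let I := Scheme.IdealSheafData.vanishingIdeal C'
  refine ⟨I.subscheme, I.subschemeι ≫ O'.ι, inferInstance, ?_⟩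
  rw [Scheme.Hom.comp_base, TopCat.coe_comp, Set.range_comp,
    Scheme.IdealSheafData.range_subschemeι, Scheme.IdealSheafData.coe_support_vanishingIdeal]
  show O'.ι '' (O'.ι ⁻¹' C) = O ∩ C
  rw [Set.image_preimage_eq_inter_range, Scheme.Opens.range_ι, Set.inter_comm]
  rfl

/-- Separatedness from a cover by opens which are finite over the base, with finite intersections. -/
theorem isSeparated_of_finite_cover {U T : Scheme.{u}} (π : U ⟶ T) {ι : Type*} (V : ι → U.Opens)
    (hcov : ∀ x, ∃ i, x ∈ V i) (hfin : ∀ i, IsFinite ((V i).ι ≫ π))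
    (hfin₂ : ∀ i j, IsFinite ((V i ⊓ V j).ι ≫ π)) : IsSeparated π := by
  refine ⟨IsClosedImmersion.of_isPreimmersion _ ?_⟩
  rw [← isOpen_compl_iff, isOpen_iff_forall_mem_open]
  intro x hx
  obtain ⟨i, hi⟩ := hcov (pullback.fst π π x)
  obtain ⟨k, hk⟩ := hcov (pullback.snd π π x)
  let m : pullback ((V i).ι ≫ π) ((V k).ι ≫ π) ⟶ pullback π π :=
    pullback.map _ _ _ _ (V i).ι (V k).ι (𝟙 T) (Category.comp_id _) (Category.comp_id _)
  haveI : IsOpenImmersion m := inferInstance
  obtain ⟨x', rfl⟩ : x ∈ Set.range m := by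
    rw [Scheme.Pullback.range_map]
    exact ⟨by rw [Scheme.Opens.range_ι]; exact hi, by rw [Scheme.Opens.range_ι]; exact hk⟩
  haveI := hfin i
  haveI := hfin k
  haveI := hfin₂ i k
  let δ : (V i ⊓ V k).toScheme ⟶ pullback ((V i).ι ≫ π) ((V k).ι ≫ π) :=
    pullback.lift (U.homOfLE inf_le_left) (U.homOfLE inf_le_right) (by simp)
  let q := pullback.fst ((V i).ι ≫ π) ((V k).ι ≫ π) ≫ (V i).ι ≫ π
  haveI : IsFinite q := inferInstance
  haveI : IsFinite (δ ≫ q) := by
    have e : δ ≫ q = (V i ⊓ V k).ι ≫ π := by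
      show δ ≫ pullback.fst _ _ ≫ (V i).ι ≫ π = _
      rw [pullback.lift_fst_assoc, Scheme.homOfLE_ι_assoc]
    rw [e]; infer_instance
  haveI : IsFinite δ := IsFinite.of_comp δ q
  have hm : ∀ u : (V i ⊓ V k).toScheme, m (δ u) = pullback.diagonal π ((V i ⊓ V k).ι u) := fun u => by
    rw [← Scheme.Hom.comp_apply, ← Scheme.Hom.comp_apply]
    have e : δ ≫ m = (V i ⊓ V k).ι ≫ pullback.diagonal π := by
      apply pullback.hom_ext
      · rw [Category.assoc, Category.assoc, pullback.lift_fst, pullback.lift_fst_assoc,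
          pullback.diagonal_fst, Scheme.homOfLE_ι, Category.comp_id]
      · rw [Category.assoc, Category.assoc, pullback.lift_snd, pullback.lift_snd_assoc,
          pullback.diagonal_snd, Scheme.homOfLE_ι, Category.comp_id]
    rw [e]
  refine ⟨m '' (Set.range δ)ᶜ, ?_, m.isOpenEmbedding.isOpenMap _ δ.isClosedMap.isClosed_range.isOpen_compl,
    ⟨x', ?_, rfl⟩⟩
  · rintro _ ⟨p, hp, rfl⟩ ⟨u, hu⟩
    have h1 : (V i).ι (pullback.fst ((V i).ι ≫ π) ((V k).ι ≫ π) p) = u := by
      have h := congrArg (fun z => pullback.fst π π z) hu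
      simp only [← Scheme.Hom.comp_apply, pullback.diagonal_fst, m, pullback.lift_fst] at h
      simpa [pullback.map] using h.symm
    have h2 : (V k).ι (pullback.snd ((V i).ι ≫ π) ((V k).ι ≫ π) p) = u := by
      have h := congrArg (fun z => pullback.snd π π z) hu
      simp only [← Scheme.Hom.comp_apply, pullback.diagonal_snd, m, pullback.lift_snd] at h
      simpa [pullback.map] using h.symm
    have hu₁ : u ∈ V i := by
      have : (V i).ι (pullback.fst ((V i).ι ≫ π) ((V k).ι ≫ π) p) ∈ Set.range (V i).ι := ⟨_, rfl⟩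
      rwa [h1, Scheme.Opens.range_ι] at this
    have hu₂ : u ∈ V k := by
      have : (V k).ι (pullback.snd ((V i).ι ≫ π) ((V k).ι ≫ π) p) ∈ Set.range (V k).ι := ⟨_, rfl⟩
      rwa [h2, Scheme.Opens.range_ι] at this
    exact hp ⟨⟨u, hu₁, hu₂⟩, m.isOpenEmbedding.injective ((hm _).trans hu)⟩
  · rintro ⟨u, hu⟩
    exact hx ⟨_, by rw [← hm u, hu]⟩

/-- The part of a base change over an open. -/
theorem isFinite_piece {U X T : Scheme.{u}} (j : U ⟶ X) (g : T ⟶ X) (W : U.Opens)
    [IsFinite (pullback.snd (W.ι ≫ j) g)] :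
    IsFinite ((pullback.fst j g ⁻¹ᵁ W).ι ≫ pullback.snd j g) := by
  have H := (isPullback_morphismRestrict (pullback.fst j g) W).paste_vert
    (IsPullback.of_hasPullback j g)
  rw [← H.isoPullback_hom_snd]
  infer_instance

theorem exists_strata {U X : Scheme.{u}} [CompactSpace U] [QuasiSeparatedSpace U]
    [CompactSpace X] [QuasiSeparatedSpace X] (j : U ⟶ X) [Etale j] :
    ∃ (n : ℕ) (T : Fin n → Scheme.{u}) (g : ∀ i, T i ⟶ X),
      (∀ i, IsImmersion (g i)) ∧ (∀ i, Topology.IsConstructible (Set.range (g i))) ∧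
      Pairwise (fun i i' => Disjoint (Set.range (g i)) (Set.range (g i'))) ∧
      (⋃ i, Set.range (g i)) = Set.univ ∧ ∀ i, IsFinite (pullback.snd j (g i)) := by
  classical
  -- a finite affine cover
  choose B hB hxB _ using fun x : U => exists_isAffineOpen_mem_and_subset (x := x) (U := ⊤) trivial
  obtain ⟨F, hF⟩ := isCompact_univ.elim_finite_subcover (fun x => (B x : Set U)) (fun x => (B x).2)
    (fun x _ => Set.mem_iUnion.mpr ⟨x, hxB x⟩)
  let W : F × F → U.Opens := fun p => B p.1 ⊓ B p.2
  haveI hWc : ∀ p, CompactSpace (W p).toScheme := fun p => isCompact_iff_compactSpace.mp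
    (QuasiSeparatedSpace.inter_isCompact _ _ (B p.1).2 (hB p.1).isCompact (B p.2).2 (hB p.2).isCompact)
  haveI hWs : ∀ p, IsSeparated ((W p).ι ≫ j) := fun p => by
    haveI : IsAffine (B p.1).toScheme := hB p.1
    haveI : IsSeparated ((B p.1).ι ≫ j) := by
      have : IsSeparated (((B p.1).ι ≫ j) ≫ terminal.from X) := by
        rw [terminal.comp_from]; infer_instance
      exact IsSeparated.of_comp _ (terminal.from X)
    have e : (W p).ι ≫ j = U.homOfLE inf_le_left ≫ (B p.1).ι ≫ j := by simp [W]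
    rw [e]; infer_instance
  haveI hWq : ∀ p, QuasiCompact ((W p).ι ≫ j) := fun p => by
    haveI : QuasiCompact (((W p).ι ≫ j) ≫ terminal.from X) := by
      rw [terminal.comp_from]; infer_instance
    exact QuasiCompact.of_comp _ (terminal.from X)
  haveI hWl : ∀ p, LocallyQuasiFinite ((W p).ι ≫ j) := fun p =>
    Unr55.locallyQuasiFinite_of_formallyUnramified _
  let D : X → F × F → ℕ := fun s p =>
    (MoreMor.fibreIntegral ((W p).ι ≫ j) (wgt ((W p).ι ≫ j)) s).toNat
  have hlev : ∀ p r, IsConstructible {s | D s p = r} := fun p r => by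
    have h := isLocallyConstructible_fibreIntegral ((W p).ι ≫ j) (wgt ((W p).ι ≫ j)) (isWeighting_wgt _) r
    have e : {s | D s p = r} = {s | MoreMor.fibreIntegral ((W p).ι ≫ j) (wgt ((W p).ι ≫ j)) s = r} := by
      ext s
      have := fibreIntegral_nonneg ((W p).ι ≫ j) (wgt ((W p).ι ≫ j)) (fun x => (wgt_pos _ x).le) s
      simp only [Set.mem_setOf_eq, D]
      omega
    rw [e]
    exact h.isConstructible
  have hlc : ∀ p r, IsLocallyClosed {s | D s p = r} := fun p r => by
    have hle := isClosed_deg_le ((W p).ι ≫ j) (fun y => ((W p).ι ≫ j).finite_preimage_singleton y)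
    rcases r with _ | r
    · have h := (hle 0).isLocallyClosed
      have e : {s | D s p = 0} = {s | D s p ≤ 0} := by ext; simp
      rw [e]; exact h
    · refine ⟨{s | D s p ≤ r}ᶜ, {s | D s p ≤ r + 1}, (hle r).isOpen_compl, hle (r + 1), ?_⟩
      ext s
      simp only [Set.mem_inter_iff, Set.mem_compl_iff, Set.mem_setOf_eq]
      omega
  have hfib : ∀ v : F × F → ℕ, D ⁻¹' {v} = ⋂ p, {s | D s p = v p} := fun v => by
    ext s; simp [funext_iff]
  have hcons : ∀ v, IsConstructible (D ⁻¹' {v}) := fun v => by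
    rw [hfib]; exact IsConstructible.iInter fun p => hlev p _
  have hlcv : ∀ v, IsLocallyClosed (D ⁻¹' {v}) := fun v => by
    rw [hfib]
    have : ∀ S : Finset (F × F), IsLocallyClosed (⋂ p ∈ S, {s | D s p = v p}) := fun S => by
      induction S using Finset.induction_on with
      | empty => simpa using isClosed_univ.isLocallyClosed
      | insert a S _ ih => rw [Finset.set_biInter_insert]; exact (hlc a _).inter ih
    simpa using this Finset.univ
  haveI : Fintype (Set.range D) := (finite_range D hcons).fintype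
  let e := (Fintype.equivFin (Set.range D)).symm
  choose T g hg hgr using fun i : Fin _ => exists_immersion (hlcv (e i).1)
  refine ⟨_, T, g, hg, fun i => hgr i ▸ hcons _, ?_, ?_, fun i => ?_⟩
  · intro i i' hii'
    show Disjoint (Set.range (g i)) (Set.range (g i'))
    rw [hgr, hgr]
    exact Disjoint.preimage _ (Set.disjoint_singleton.2 fun h => hii' (e.injective (Subtype.ext h)))
  · refine Set.eq_univ_of_forall fun s => Set.mem_iUnion.2 ⟨e.symm ⟨D s, ⟨s, rfl⟩⟩, ?_⟩
    rw [hgr, e.apply_symm_apply]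
    rfl
  · have hfinP : ∀ p, IsFinite ((pullback.fst j (g i) ⁻¹ᵁ W p).ι ≫ pullback.snd j (g i)) := fun p => by
      haveI : IsFinite (pullback.snd ((W p).ι ≫ j) (g i)) := by
        have h := (isFinLocFreeOfDeg_iff ((W p).ι ≫ j)
          (fun y => ((W p).ι ≫ j).finite_preimage_singleton y) (g i) ((e i).1 p)).2 fun t => by
            have ht : g i t ∈ D ⁻¹' {(e i).1} := hgr i ▸ Set.mem_range_self t
            exact congrFun ht p
        exact h.1.1
      exact isFinite_piece j (g i) (W p)
    let V : F → (pullback j (g i)).Opens := fun x => pullback.fst j (g i) ⁻¹ᵁ B x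
    have hcov : ∀ z, ∃ x, z ∈ V x := fun z => by
      obtain ⟨x, hx, hz⟩ := Set.mem_iUnion₂.1 (hF (Set.mem_univ (pullback.fst j (g i) z)))
      exact ⟨⟨x, hx⟩, hz⟩
    have hfinV : ∀ x, IsFinite ((V x).ι ≫ pullback.snd j (g i)) := fun x => by
      have h := hfinP (x, x)
      exact (congrArg (fun O => IsFinite ((pullback.fst j (g i) ⁻¹ᵁ O).ι ≫ pullback.snd j (g i)))
        (inf_idem (B x))).mp h
    haveI : IsSeparated (pullback.snd j (g i)) :=
      isSeparated_of_finite_cover _ V hcov hfinV fun x y => hfinP (x, y)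
    haveI : LocallyQuasiFinite (pullback.snd j (g i)) :=
      Unr55.locallyQuasiFinite_of_formallyUnramified _
    exact isFinite_of_finite_cover _ V hfinV hcov

end Groth.Agent.EtStrat51
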