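import Mathlib
import Groth.Agent.FlatMor66.Level2

/-!
A quasi-finite finitely presented algebra becomes finite étale up to nilpotents after a surjective
finitely presented base change.
-/

set_option autoImplicit false
universe u

open TensorProduct PrimeSpectrum

namespace Groth.Agent.EtStrat51

variable {A B : Type u} [CommRing A] [CommRing B] [Algebra A B]

theorem exists_sections [Algebra.FinitePresentation A B] (K : Type u) [CommRing K] [Algebra A K] :
    ∀ (n : ℕ) (φ : Fin n → B →ₐ[A] K), ∃ (C : Type u) (_ : CommRing C) (_ : Algebra A C),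
      Algebra.FinitePresentation A C ∧
      ∃ (η : C →ₐ[A] K) (σ : Fin n → B →ₐ[A] C), ∀ i b, η (σ i b) = φ i b := by
  intro n
  induction n with
  | zero => exact fun φ => ⟨A, _, _, inferInstance, Algebra.ofId A K, fun i => i.elim0, fun i => i.elim0⟩
  | succ n ih =>
    intro φ
    obtain ⟨C, _, _, hC, η, σ, hσ⟩ := ih fun i => φ i.succ
    haveI := hC
    refine ⟨C ⊗[A] B, inferInstance, inferInstance, Algebra.FinitePresentation.trans A C (C ⊗[A] B),
      Algebra.TensorProduct.lift η (φ 0) (fun _ _ => .all _ _),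
      Fin.cases Algebra.TensorProduct.includeRight fun i => Algebra.TensorProduct.includeLeft.comp (σ i),
      fun i b => ?_⟩
    induction i using Fin.cases with
    | zero => simp
    | succ i => simp [hσ]

/-- The section of the base change attached to an algebra map. -/
noncomputable abbrev sect {R C : Type u} [CommRing R] [Algebra A R] [CommRing C] [Algebra A C] [Algebra R C]
    [IsScalarTower A R C] (σ : B →ₐ[A] C) : R ⊗[A] B →ₐ[R] C :=
  Algebra.TensorProduct.lift (Algebra.ofId R C) σ (fun _ _ => .all _ _)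

/-- Finitely many distinct points come from separated sections over a finitely presented algebra. -/
theorem exists_separated [Algebra.FinitePresentation A B] (K : Type u) [Field K] [Algebra A K]
    (n : ℕ) (φ : Fin n → B →ₐ[A] K) (hφ : ∀ i j, i ≠ j → φ i ≠ φ j) :
    ∃ (C : Type u) (_ : CommRing C) (_ : Algebra A C), Algebra.FinitePresentation A C ∧
      ∃ (η : C →ₐ[A] K) (σ : Fin n → B →ₐ[A] C), (∀ i b, η (σ i b) = φ i b) ∧
        ∀ i j, i ≠ j → ∃ b, IsUnit (σ i b - σ j b) := by
  classical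
  obtain ⟨C₀, _, _, hC₀, η₀, σ₀, hσ₀⟩ := exists_sections K n φ
  haveI := hC₀
  -- separate the sections
  have hsep : ∀ ij : {ij : Fin n × Fin n // ij.1 ≠ ij.2}, ∃ b, η₀ (σ₀ ij.1.1 b - σ₀ ij.1.2 b) ≠ 0 := by
    intro ij
    by_contra h
    push Not at h
    refine hφ _ _ ij.2 (AlgHom.ext fun b => ?_)
    simpa [hσ₀, sub_eq_zero] using h b
  choose b hb using hsep
  let δ : C₀ := ∏ ij, (σ₀ ij.1.1 (b ij) - σ₀ ij.1.2 (b ij))
  have hδ : η₀ δ ≠ 0 := by
    rw [map_prod]; exact Finset.prod_ne_zero_iff.2 fun ij _ => hb ij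
  let C₁ := Localization.Away δ
  haveI : Algebra.FinitePresentation C₀ C₁ := IsLocalization.Away.finitePresentation δ
  haveI : Algebra.FinitePresentation A C₁ := Algebra.FinitePresentation.trans A C₀ C₁
  let η₁ : C₁ →ₐ[A] K := IsLocalization.liftAlgHom (M := Submonoid.powers δ) (f := η₀) (by
    rintro ⟨y, m, rfl⟩
    show IsUnit (η₀ (δ ^ m))
    rw [map_pow]
    exact (isUnit_iff_ne_zero.2 hδ).pow m)
  let σ₁ : Fin n → B →ₐ[A] C₁ := fun i => (IsScalarTower.toAlgHom A C₀ C₁).comp (σ₀ i)
  have hη₁ : ∀ i x, η₁ (σ₁ i x) = φ i x := fun i x => by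
    show η₁ (algebraMap C₀ C₁ (σ₀ i x)) = _
    rw [← hσ₀]
    exact IsLocalization.lift_eq _ _
  have hunit : ∀ i j, i ≠ j → ∃ x, IsUnit (σ₁ i x - σ₁ j x) := fun i j hij => by
    refine ⟨b ⟨(i, j), hij⟩, ?_⟩
    show IsUnit (algebraMap C₀ C₁ (σ₀ i _) - algebraMap C₀ C₁ (σ₀ j _))
    rw [← map_sub]
    refine isUnit_of_dvd_unit (map_dvd (algebraMap C₀ C₁) (Finset.dvd_prod_of_mem
      (fun ij : {ij : Fin n × Fin n // ij.1 ≠ ij.2} => σ₀ ij.1.1 (b ij) - σ₀ ij.1.2 (b ij))
      (Finset.mem_univ ⟨(i, j), hij⟩))) ?_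
    exact IsLocalization.map_units C₁ (⟨δ, Submonoid.mem_powers δ⟩ : Submonoid.powers δ)
  exact ⟨C₁, inferInstance, inferInstance, inferInstance, η₁, σ₁, hη₁, hunit⟩

/-- Restriction to a constructible set containing a given point. -/
theorem exists_hom_range_subset (C : Type u) [CommRing C] [Algebra A C] [Algebra.FinitePresentation A C]
    {E : Set (PrimeSpectrum C)} (hE : Topology.IsConstructible E) (p : PrimeSpectrum C) (hp : p ∈ E) :
    ∃ (C' : Type u) (_ : CommRing C') (_ : Algebra A C'), Algebra.FinitePresentation A C' ∧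
      ∃ π : C →ₐ[A] C', Set.range (comap π.toRingHom) ⊆ E ∧ p ∈ Set.range (comap π.toRingHom) := by
  obtain ⟨S, hS⟩ := exists_constructibleSetData_iff.2 hE
  obtain ⟨D, hD, hpD⟩ := Set.mem_iUnion₂.1 (hS.symm.le hp)
  let L := Localization.Away D.f
  let J : Ideal L := (Ideal.span (Set.range D.g)).map (algebraMap C L)
  haveI : Algebra.FinitePresentation C L := IsLocalization.Away.finitePresentation D.f
  haveI : Algebra.FinitePresentation A L := Algebra.FinitePresentation.trans A C L
  haveI : Algebra.FinitePresentation A (L ⧸ J) :=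
    Algebra.FinitePresentation.quotient (Ideal.FG.map (Submodule.fg_span (Set.finite_range _)) _)
  let π : C →ₐ[A] L ⧸ J := (Ideal.Quotient.mkₐ A J).comp (IsScalarTower.toAlgHom A C L)
  have hrange : Set.range (comap π.toRingHom) = D.toSet := by
    show Set.range (comap ((Ideal.Quotient.mk J).comp (algebraMap C L))) = _
    rw [comap_comp, Set.range_comp, range_comap_of_surjective _ _ Ideal.Quotient.mk_surjective,
      Ideal.mk_ker]
    rw [show zeroLocus (J : Set L) =
        comap (algebraMap C L) ⁻¹' zeroLocus (Ideal.span (Set.range D.g) : Set C) by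
      rw [preimage_comap_zeroLocus, ← zeroLocus_span ((algebraMap C L) '' _)]; rfl]
    rw [Set.image_preimage_eq_inter_range, localization_away_comap_range L D.f]
    rw [BasicConstructibleSetData.toSet, zeroLocus_span, basicOpen_eq_zeroLocus_compl, Set.diff_eq]
  exact ⟨L ⧸ J, inferInstance, inferInstance, inferInstance, π,
    hrange.le.trans (Set.Subset.trans (fun x hx => Set.mem_iUnion₂.2 ⟨D, hD, hx⟩) hS.le),
    hrange ▸ hpD⟩

/-- The piece through a given prime. -/
theorem exists_piece [Algebra.FinitePresentation A B] [Algebra.QuasiFinite A B]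
    (s : Ideal A) [s.IsPrime] :
    ∃ (C : Type u) (_ : CommRing C) (_ : Algebra A C), Algebra.FinitePresentation A C ∧
      (∃ P : Ideal C, P.IsPrime ∧ P.comap (algebraMap A C) = s) ∧
      ∃ (n : ℕ) (σ : Fin n → B →ₐ[A] C), (∀ i j, i ≠ j → ∃ b, IsUnit (σ i b - σ j b)) ∧
        ∀ Q : Ideal (C ⊗[A] B), Q.IsPrime → ∃ i, RingHom.ker (sect (R := C) (σ i)) ≤ Q := by
  classical
  let K := AlgebraicClosure s.ResidueField
  haveI : Module.Finite K (K ⊗[A] B) := Module.Finite.of_quasiFinite (R := K) (S := K ⊗[A] B)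
  haveI : Finite (B →ₐ[A] K) := by
    haveI : IsArtinianRing (K ⊗[A] B) := IsArtinianRing.of_finite K _
    refine Finite.of_injective (fun φ : B →ₐ[A] K =>
      (⟨RingHom.ker (sect (R := K) φ), RingHom.ker_isPrime _⟩ : PrimeSpectrum (K ⊗[A] B))) ?_
    intro φ ψ h
    ext b
    have hb : φ b ⊗ₜ[A] (1 : B) - (1 : K) ⊗ₜ[A] b ∈ RingHom.ker (sect (R := K) φ) := by
      simp [RingHom.mem_ker]
    rw [show RingHom.ker (sect (R := K) φ) = RingHom.ker (sect (R := K) ψ) from
      congrArg PrimeSpectrum.asIdeal h, RingHom.mem_ker] at hb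
    simpa [sub_eq_zero] using hb
  obtain ⟨n, ⟨e⟩⟩ := Finite.exists_equiv_fin (B →ₐ[A] K)
  obtain ⟨C₁, _, _, hC₁, η₁, σ₁, hη₁, hunit⟩ := exists_separated K n (fun i => e.symm i)
    (fun i j hij h => hij (e.symm.injective h))
  haveI := hC₁
  -- the bad locus
  let V : Fin n → Set (PrimeSpectrum (C₁ ⊗[A] B)) := fun i =>
    zeroLocus (RingHom.ker (sect (R := C₁) (σ₁ i)) : Set (C₁ ⊗[A] B))
  have hV : ∀ i, Topology.IsConstructible (V i) := fun i => by
    obtain ⟨T, hT⟩ := Algebra.FinitePresentation.ker_fG_of_surjective (sect (R := C₁) (σ₁ i))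
      (fun c => ⟨c ⊗ₜ 1, by simp⟩)
    obtain ⟨g, hg⟩ : ∃ g : Fin T.card → C₁ ⊗[A] B, Set.range g = ↑T :=
      ⟨fun k => (T.equivFin.symm k).1, by
        ext x
        exact ⟨fun ⟨k, hk⟩ => hk ▸ (T.equivFin.symm k).2, fun hx => ⟨T.equivFin ⟨x, hx⟩, by simp⟩⟩⟩
    refine exists_constructibleSetData_iff.1 ⟨{⟨1, T.card, g⟩}, ?_⟩
    have hTV : V i = zeroLocus (T : Set (C₁ ⊗[A] B)) := by
      show zeroLocus _ = _
      rw [show RingHom.ker (sect (R := C₁) (σ₁ i)) = Ideal.span (T : Set (C₁ ⊗[A] B)) from hT.symm]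
      exact zeroLocus_span _
    rw [hTV]
    simp [ConstructibleSetData.toSet, BasicConstructibleSetData.toSet, hg, zeroLocus_singleton_one]
  let bad : Set (PrimeSpectrum C₁) := comap (algebraMap C₁ (C₁ ⊗[A] B)) '' (⋂ i, (V i)ᶜ)
  have hbad : Topology.IsConstructible bad := isConstructible_comap_image
    (RingHom.finitePresentation_algebraMap.2 inferInstance)
    (Topology.IsConstructible.iInter fun i => (hV i).compl)
  let p : PrimeSpectrum C₁ := ⟨RingHom.ker η₁, RingHom.ker_isPrime _⟩
  have hp : p ∈ badᶜ := by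
    rintro ⟨Q, hQ, hQp⟩
    haveI := Q.2
    haveI : p.asIdeal.IsPrime := p.2
    haveI : Q.asIdeal.LiesOver p.asIdeal := ⟨(congrArg PrimeSpectrum.asIdeal hQp).symm⟩
    let kp := p.asIdeal.ResidueField
    letI : Algebra C₁ K := η₁.toRingHom.toAlgebra
    letI := Localization.AtPrime.algebraOfLiesOver p.asIdeal Q.asIdeal
    let ι : kp →ₐ[C₁] K :=
      Ideal.ResidueField.liftₐ p.asIdeal (Algebra.ofId C₁ K) le_rfl (fun x hx => Ne.isUnit hx)
    letI : Algebra kp K := ι.toRingHom.toAlgebra
    haveI : IsScalarTower C₁ kp K := IsScalarTower.of_algebraMap_eq fun c => (ι.commutes c).symm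
    haveI : Module.Finite kp Q.asIdeal.ResidueField := inferInstance
    haveI : Algebra.IsAlgebraic kp Q.asIdeal.ResidueField := Algebra.IsAlgebraic.of_finite _ _
    let j : Q.asIdeal.ResidueField →ₐ[kp] K := IsAlgClosed.lift
    let χ : C₁ ⊗[A] B →ₐ[C₁] K :=
      (j.restrictScalars C₁).comp (IsScalarTower.toAlgHom C₁ (C₁ ⊗[A] B) Q.asIdeal.ResidueField)
    let ψ : B →ₐ[A] K :=
      { (χ : C₁ ⊗[A] B →+* K).comp (Algebra.TensorProduct.includeRight : B →ₐ[A] C₁ ⊗[A] B).toRingHom with
        commutes' := fun a => by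
          show χ ((1 : C₁) ⊗ₜ[A] algebraMap A B a) = algebraMap A K a
          rw [Algebra.algebraMap_eq_smul_one (A := B), ← TensorProduct.smul_tmul,
            ← Algebra.algebraMap_eq_smul_one (A := C₁)]
          exact (χ.commutes _).trans (η₁.commutes a) }
    obtain ⟨i, hi⟩ := e.symm.surjective ψ
    refine Set.mem_iInter.1 hQ i ?_
    show (RingHom.ker (sect (R := C₁) (σ₁ i)) : Set (C₁ ⊗[A] B)) ⊆ Q.asIdeal
    intro z hz
    have key : ∀ z, χ z = η₁ (sect (R := C₁) (σ₁ i) z) := by
      intro z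
      induction z using TensorProduct.induction_on with
      | zero => simp
      | add x y hx hy => simp only [map_add, hx, hy]
      | tmul c x =>
        rw [show c ⊗ₜ[A] x = algebraMap C₁ (C₁ ⊗[A] B) c * (1 : C₁) ⊗ₜ[A] x by simp, map_mul, χ.commutes]
        simp only [map_mul, AlgHom.commutes, Algebra.TensorProduct.lift_tmul, map_one, one_mul]
        rw [hη₁ i x, hi]
        rfl
    have hz' : χ z = 0 := by rw [key, RingHom.mem_ker.1 hz, map_zero]
    have : algebraMap (C₁ ⊗[A] B) Q.asIdeal.ResidueField z = 0 := j.toRingHom.injective (by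
      rw [map_zero]; exact hz')
    exact Ideal.algebraMap_residueField_eq_zero.1 this
  obtain ⟨C₂, _, _, hC₂, π, hπsub, P, hP⟩ := exists_hom_range_subset (A := A) C₁ hbad.compl p hp
  haveI := hC₂
  refine ⟨C₂, inferInstance, inferInstance, inferInstance, ⟨P.asIdeal, P.2, ?_⟩,
    n, fun i => π.comp (σ₁ i), fun i j hij => ?_, fun Q hQ => ?_⟩
  · have h : P.asIdeal.comap π.toRingHom = RingHom.ker η₁ := congrArg PrimeSpectrum.asIdeal hP
    rw [← π.comp_algebraMap, ← Ideal.comap_comap]
    ext a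
    show algebraMap A C₁ a ∈ P.asIdeal.comap π.toRingHom ↔ _
    rw [h, RingHom.mem_ker, η₁.commutes, IsScalarTower.algebraMap_apply A s.ResidueField K, map_eq_zero,
      Ideal.algebraMap_residueField_eq_zero]
  · obtain ⟨x, hx⟩ := hunit i j hij
    exact ⟨x, by simpa [map_sub] using hx.map π⟩
  · haveI := hQ
    let m : C₁ ⊗[A] B →ₐ[A] (C₂) ⊗[A] B := Algebra.TensorProduct.map π (AlgHom.id A B)
    let Q₁ : PrimeSpectrum (C₁ ⊗[A] B) := ⟨Q.comap m, inferInstance⟩
    have hQ₁ : comap (algebraMap C₁ (C₁ ⊗[A] B)) Q₁ ∈ badᶜ := by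
      refine hπsub ⟨comap (algebraMap C₂ (C₂ ⊗[A] B)) ⟨Q, hQ⟩, PrimeSpectrum.ext ?_⟩
      ext c
      show algebraMap C₂ (C₂ ⊗[A] B) (π c) ∈ Q ↔ m (algebraMap C₁ (C₁ ⊗[A] B) c) ∈ Q
      simp [m]
    obtain ⟨i, hi⟩ : ∃ i, Q₁ ∈ V i := by
      by_contra h
      push Not at h
      exact hQ₁ ⟨Q₁, Set.mem_iInter.2 h, rfl⟩
    refine ⟨i, fun z hz => ?_⟩
    -- every element is congruent to a scalar
    have hker : ∀ (y : B), π (σ₁ i y) ⊗ₜ[A] (1 : B) - (1 : C₂) ⊗ₜ[A] y ∈ Q := fun y => by
      have h : σ₁ i y ⊗ₜ[A] (1 : B) - (1 : C₁) ⊗ₜ[A] y ∈ Q₁.asIdeal := hi (by simp [RingHom.mem_ker])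
      have h' : m (σ₁ i y ⊗ₜ[A] (1 : B) - (1 : C₁) ⊗ₜ[A] y) ∈ Q := h
      simpa [m, map_sub] using h'
    have hcong : ∀ z : (C₂) ⊗[A] B,
        z - sect (R := C₂) (π.comp (σ₁ i)) z ⊗ₜ[A] (1 : B) ∈ Q := by
      intro z
      induction z using TensorProduct.induction_on with
      | zero => simp
      | add x y hx hy =>
        rw [map_add, TensorProduct.add_tmul, add_sub_add_comm]
        exact Q.add_mem hx hy
      | tmul c y =>
        have := Q.mul_mem_left (c ⊗ₜ[A] (1 : B)) (neg_mem (hker y))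
        simpa [mul_sub] using this
    have := hcong z
    rwa [RingHom.mem_ker.1 hz, TensorProduct.zero_tmul, sub_zero] at this

theorem mul_single_eq_zero {ι : Type u} [DecidableEq ι] {C : ι → Type u} [∀ i, CommRing (C i)] (r : ∀ i, C i)
    (k : ι) (hr : r k = 0) : r * Pi.single k 1 = 0 := by
  funext l
  rcases eq_or_ne l k with rfl | hl
  · simp [hr]
  · simp [hl]

theorem ker_evalRingHom {ι : Type u} [DecidableEq ι] {C : ι → Type u} [∀ i, CommRing (C i)] (k : ι) :
    RingHom.ker (Pi.evalRingHom C k) = Ideal.span {(1 : ∀ i, C i) - Pi.single k 1} := by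
  ext r
  rw [RingHom.mem_ker, Ideal.mem_span_singleton']
  constructor
  · intro hr
    exact ⟨r, by rw [mul_sub, mul_one, mul_single_eq_zero r k hr, sub_zero]⟩
  · rintro ⟨t, rfl⟩
    simp

/-- The decomposition. -/
theorem exists_decomposition [Algebra.FinitePresentation A B] [Algebra.QuasiFinite A B] :
    ∃ (R : Type u) (_ : CommRing R) (_ : Algebra A R) (Z : Type u) (_ : CommRing Z) (_ : Algebra R Z)
      (Ψ : R ⊗[A] B →ₐ[R] Z), Function.Surjective (comap (algebraMap A R)) ∧
      Module.Finite R Z ∧ Algebra.Etale R Z ∧ Function.Surjective Ψ ∧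
      ∀ Q : Ideal (R ⊗[A] B), Q.IsPrime → RingHom.ker Ψ ≤ Q := by
  classical
  choose C i₁ i₂ hC hP n σ hsep hker using fun s : PrimeSpectrum A => exists_piece (B := B) s.asIdeal
  let E : PrimeSpectrum A → Set (PrimeSpectrum A) := fun s => Set.range (comap (algebraMap A (C s)))
  have hE : ∀ s, Topology.IsConstructible (E s) := fun s =>
    isConstructible_range_comap (RingHom.finitePresentation_algebraMap.2 (hC s))
  obtain ⟨F, hF⟩ := (isCompact_univ (X := WithConstructibleTopology (PrimeSpectrum A))).elim_finite_subcover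
    (fun s => WithTopology.ofTopology ⁻¹' E s)
    (fun s => WithConstructibleTopology.isOpen_iff.mpr
      (FlatMor66.isClopen_constructibleTopology_of_isConstructible (hE s)).1)
    (fun z _ => by
      obtain ⟨P, hP1, hP2⟩ := hP (WithTopology.ofTopology z)
      exact Set.mem_iUnion.mpr ⟨_, ⟨P, hP1⟩, PrimeSpectrum.ext hP2⟩)
  let R := ∀ k : F, C k
  letI : ∀ k : F, Algebra R (C k) := fun k => (Pi.evalRingHom _ k).toAlgebra
  haveI : ∀ k : F, IsScalarTower A R (C k) := fun k => IsScalarTower.of_algebraMap_eq fun _ => rfl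
  let ι := Σ k : F, Fin (n k)
  let Ψ : R ⊗[A] B →ₐ[R] (∀ x : ι, C x.1) := Pi.algHom _ _ fun x => sect (R := R) (σ x.1 x.2)
  refine ⟨R, inferInstance, inferInstance, ∀ x : ι, C x.1, inferInstance, inferInstance, Ψ,
    fun s => ?_, ?_, ?_, ?_, fun Q hQ => ?_⟩
  · obtain ⟨k, hk, hs⟩ := Set.mem_iUnion₂.mp (hF (Set.mem_univ (WithTopology.toTopology _ s)))
    obtain ⟨P, hPs⟩ := hs
    exact ⟨comap (Pi.evalRingHom (fun k : F => C k) ⟨k, hk⟩) P, hPs⟩
  · haveI : ∀ x : ι, Module.Finite R (C x.1) := fun x =>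
      Module.Finite.of_surjective (Algebra.linearMap R (C x.1)) fun c =>
        ⟨Function.update 0 x.1 c, Function.update_self _ _ _⟩
    exact Module.Finite.pi
  · haveI : ∀ x : ι, Algebra.Etale R (C x.1) := fun x => by
      haveI : IsLocalization.Away (Pi.single x.1 1 : R) (C x.1) := by
        refine IsLocalization.away_of_isIdempotentElem ?_ ?_ ?_
        · show (Pi.single x.1 1 : R) * Pi.single x.1 1 = Pi.single x.1 1
          rw [← Pi.single_mul, one_mul]
        · exact ker_evalRingHom x.1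
        · exact fun c => ⟨Function.update 0 x.1 c, Function.update_self _ _ _⟩
      exact Algebra.Etale.of_isLocalizationAway (Pi.single x.1 1 : R)
    haveI : Algebra.FormallyEtale R (∀ x : ι, C x.1) :=
      (Algebra.FormallyEtale.pi_iff _).2 fun x => inferInstance
    haveI : Algebra.FinitePresentation R (∀ x : ι, C x.1) := inferInstance
    exact Algebra.Etale.mk
  · intro c
    have hΨ : ∀ (x : ι) w, Ψ w x = sect (R := R) (σ x.1 x.2) w := fun _ _ => rfl
    have hind : ∀ x y : ι, x ≠ y → ∃ z, Ψ z x = 1 ∧ Ψ z y = 0 := by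
      rintro ⟨k, i⟩ ⟨l, j⟩ hne
      by_cases hkl : k = l
      · subst hkl
        obtain ⟨b, hb⟩ := hsep k.1 i j (fun h => hne (by rw [h]))
        let a : R := Function.update 0 k (σ k.1 j b)
        let w : R := Function.update 0 k (↑hb.unit⁻¹ : C k)
        refine ⟨w ⊗ₜ[A] b - (w * a) ⊗ₜ[A] (1 : B), ?_, ?_⟩
        · rw [hΨ]
          simp only [map_sub, Algebra.TensorProduct.lift_tmul, map_one, mul_one, Algebra.ofId_apply]
          show w k * σ k.1 i b - (w * a) k = 1
          show w k * σ k.1 i b - w k * a k = 1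
          simp only [w, a, Function.update_self, ← mul_sub]
          exact hb.val_inv_mul
        · rw [hΨ]
          simp only [map_sub, Algebra.TensorProduct.lift_tmul, map_one, mul_one, Algebra.ofId_apply]
          show w k * σ k.1 j b - (w * a) k = 0
          show w k * σ k.1 j b - w k * a k = 0
          simp [w, a]
      · refine ⟨(Pi.single k 1 : R) ⊗ₜ[A] 1, ?_, ?_⟩
        · rw [hΨ]
          simp only [Algebra.TensorProduct.lift_tmul, map_one, mul_one, Algebra.ofId_apply]
          exact Pi.single_eq_same k 1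
        · rw [hΨ]
          simp only [Algebra.TensorProduct.lift_tmul, map_one, mul_one, Algebra.ofId_apply]
          exact Pi.single_eq_of_ne (Ne.symm hkl) 1
    choose z hz1 hz0 using hind
    refine ⟨∑ x : ι, algebraMap R (R ⊗[A] B) (Function.update 0 x.1 (c x)) *
      ∏ y : {y : ι // y ≠ x}, z x y (Ne.symm y.2), funext fun t => ?_⟩
    rw [map_sum, Finset.sum_apply, Finset.sum_eq_single t]
    · rw [map_mul, map_prod, AlgHom.commutes, Pi.mul_apply, Finset.prod_apply]
      rw [Finset.prod_eq_one, mul_one]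
      · exact Function.update_self _ _ _
      · intro y _
        exact hz1 t y _
    · intro x _ hx
      rw [map_mul, map_prod, Pi.mul_apply, Finset.prod_apply,
        Finset.prod_eq_zero (Finset.mem_univ ⟨t, Ne.symm hx⟩) (hz0 x t hx), mul_zero]
    · simp
  · haveI := hQ
    obtain ⟨k, hk⟩ : ∃ k : F, algebraMap R (R ⊗[A] B) (Pi.single k 1) ∉ Q := by
      by_contra h
      push Not at h
      refine hQ.ne_top ((Ideal.eq_top_iff_one Q).2 ?_)
      rw [← map_one (algebraMap R (R ⊗[A] B)), show (1 : R) = ∑ k, Pi.single k 1 from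
        (Finset.univ_sum_single (1 : R)).symm, map_sum]
      exact Q.sum_mem fun k _ => h k
    let π : R →ₐ[A] C k := IsScalarTower.toAlgHom A R (C k)
    let m : R ⊗[A] B →ₐ[A] C k ⊗[A] B := Algebra.TensorProduct.map π (AlgHom.id A B)
    have hπ : Function.Surjective π := fun c => ⟨Function.update 0 k c, Function.update_self _ _ _⟩
    have hm : Function.Surjective m := TensorProduct.map_surjective hπ Function.surjective_id
    have hle : RingHom.ker m ≤ Q := by
      rw [Algebra.TensorProduct.rTensor_ker π hπ, Ideal.map_le_iff_le_comap]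
      intro r hr
      refine (hQ.mem_or_mem (show algebraMap R (R ⊗[A] B) r * algebraMap R (R ⊗[A] B) (Pi.single k 1) ∈ Q
        from ?_)).resolve_right hk
      rw [← map_mul, show r * Pi.single k 1 = 0 from mul_single_eq_zero r k hr, map_zero]
      exact Q.zero_mem
    haveI : (Q.map m).IsPrime := Ideal.map_isPrime_of_surjective hm hle
    obtain ⟨i, hi⟩ := hker k.1 (Q.map m) inferInstance
    intro z hz
    have h1 : ∀ z, Ψ z ⟨k, i⟩ = sect (R := C k) (σ k.1 i) (m z) := by
      intro z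
      induction z using TensorProduct.induction_on with
      | zero => simp
      | add x y hx hy => simp [hx, hy]
      | tmul r b =>
        show sect (R := R) (σ k.1 i) (r ⊗ₜ[A] b) = _
        simp [m, π]
    have h2 : m z ∈ Q.map m := hi (by rw [RingHom.mem_ker, ← h1, RingHom.mem_ker.1 hz]; rfl)
    obtain ⟨q, hq, hqz⟩ := (Ideal.mem_map_iff_of_surjective m hm).1 h2
    have : z - q ∈ Q := hle (by rw [RingHom.mem_ker, map_sub, hqz, sub_self])
    simpa using Q.add_mem this hq

end Groth.Agent.EtStrat51
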